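import Mathlib.Algebra.Algebra.Epi
import Mathlib.Algebra.CharP.Lemmas
import Mathlib.Algebra.Polynomial.Identities
import Mathlib.RingTheory.IntegralClosure.IsIntegral.Basic
import Mathlib.RingTheory.Nilpotent.Basic
import Mathlib.Tactic.LinearCombination

/-!
If `B` is a ring in which the prime `p` is zero, `A → B` a ring map, and `B = A[t, 1/h]` with `t` a root of
a polynomial over `A` whose derivative is a unit at `t`, then `B` is generated by the `p`-th powers
as an `A`-module.
-/

set_option autoImplicit false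

namespace K722.EtGen

open Polynomial TensorProduct

section

variable {B : Type*} [CommRing B] {p : ℕ} (hp : p.Prime) (hchar : (p : B) = 0)

include hp hchar in
theorem add_pow' (x y : B) : (x + y) ^ p = x ^ p + y ^ p := by
  obtain ⟨r, hr⟩ := exists_add_pow_prime_eq hp x y
  rw [hr, hchar]; ring

include hp hchar in
theorem sub_pow' (x y : B) : (x - y) ^ p = x ^ p - y ^ p := by
  have h := add_pow' hp hchar (x - y) y
  rw [sub_add_cancel] at h
  rw [h]; ring

include hp hchar in
theorem sum_pow' {ι : Type*} (s : Finset ι) (f : ι → B) : (∑ i ∈ s, f i) ^ p = ∑ i ∈ s, f i ^ p := by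
  classical
  induction s using Finset.induction_on with
  | empty => simp [hp.ne_zero]
  | insert a s ha ih => rw [Finset.sum_insert ha, Finset.sum_insert ha, add_pow' hp hchar, ih]

/-- A simple root stays simple: two roots of a polynomial with nilpotent difference, at one of which the
derivative is a unit, are equal. -/
theorem eq_of_isNilpotent_sub {A C : Type*} [CommRing A] [CommRing C] [Algebra A C] (P : A[X]) {x y : C}
    (hx : aeval x P = 0) (hy : aeval y P = 0) (hu : IsUnit (aeval y (derivative P)))
    (hn : IsNilpotent (x - y)) : x = y := by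
  obtain ⟨c, hc⟩ := Polynomial.binomExpansion (P.map (algebraMap A C)) y (x - y)
  rw [add_sub_cancel, eval_map_algebraMap, eval_map_algebraMap, derivative_map,
    eval_map_algebraMap, hx, hy, zero_add] at hc
  have h1 : IsUnit (aeval y (derivative P) + c * (x - y)) :=
    ((Commute.all _ _).isNilpotent_mul_left hn).isUnit_add_left_of_commute hu (Commute.all _ _)
  have h2 : (x - y) * (aeval y (derivative P) + c * (x - y)) = 0 := by
    linear_combination -hc
  have h3 : x - y = 0 := by
    obtain ⟨w, hw⟩ := h1
    rw [← hw] at h2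
    have := congrArg (· * (↑w⁻¹ : C)) h2
    simpa [mul_assoc] using this
  exact sub_eq_zero.mp h3

include hp hchar in
/-- `B = A[t]` is an epimorphism if `t ^ p` is in the image of `A`, and `t` is a simple root. -/
theorem isEpi_of_adjoin {A : Type*} [CommRing A] [Algebra A B] (P : A[X]) {t : B}
    (hPt : aeval t P = 0) (hu : IsUnit (aeval t (derivative P))) {a : A} (ha : algebraMap A B a = t ^ p)
    (htop : Algebra.adjoin A {t} = ⊤) : Algebra.IsEpi A B := by
  rw [Algebra.isEpi_iff_forall_one_tmul_eq]
  have h6 : (1 : B) ⊗ₜ[A] t = t ⊗ₜ[A] 1 := by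
    refine (eq_of_isNilpotent_sub (C := B ⊗[A] B) P ?_ ?_ ?_ ?_)
    · have h7 : aeval ((1 : B) ⊗ₜ[A] t) P =
          Algebra.TensorProduct.includeRight (R := A) (A := B) (B := B) (aeval t P) := by
        rw [← aeval_algHom_apply]; rfl
      rw [h7, hPt, map_zero]
    · have h7 : aeval (t ⊗ₜ[A] (1 : B)) P =
          Algebra.TensorProduct.includeLeft (R := A) (S := A) (A := B) (B := B) (aeval t P) := by
        rw [← aeval_algHom_apply]; rfl
      rw [h7, hPt, map_zero]
    · have h7 : aeval (t ⊗ₜ[A] (1 : B)) (derivative P) =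
          Algebra.TensorProduct.includeLeft (R := A) (S := A) (A := B) (B := B)
            (aeval t (derivative P)) := by
        rw [← aeval_algHom_apply]; rfl
      rw [h7]
      exact hu.map _
    · refine ⟨p, ?_⟩
      have h8 : ((p : ℕ) : B ⊗[A] B) = 0 := by
        have h9 := congrArg (Algebra.TensorProduct.includeLeft (R := A) (S := A) (A := B) (B := B))
          hchar
        rwa [map_natCast, map_zero] at h9
      rw [sub_pow' hp h8, Algebra.TensorProduct.tmul_pow, Algebra.TensorProduct.tmul_pow, one_pow,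
        ← ha, Algebra.algebraMap_eq_smul_one, TensorProduct.tmul_smul, TensorProduct.smul_tmul',
        sub_self]
  intro b
  have h7 : b ∈ Algebra.adjoin A {t} := by rw [htop]; exact Algebra.mem_top
  refine Algebra.adjoin_induction (p := fun b _ => (1 : B) ⊗ₜ[A] b = b ⊗ₜ[A] 1) ?_ ?_ ?_ ?_ h7
  · intro x hx; rw [Set.mem_singleton_iff] at hx; rw [hx]; exact h6
  · intro a
    rw [Algebra.algebraMap_eq_smul_one, TensorProduct.tmul_smul, TensorProduct.smul_tmul']
  · intro x y _ _ hx hy; rw [TensorProduct.tmul_add, TensorProduct.add_tmul, hx, hy]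
  · intro x y _ _ hx hy
    have h8 : (1 : B) ⊗ₜ[A] (x * y) = ((1 : B) ⊗ₜ[A] x) * ((1 : B) ⊗ₜ[A] y) := by
      rw [Algebra.TensorProduct.tmul_mul_tmul, one_mul]
    have h9 : (x * y) ⊗ₜ[A] (1 : B) = (x ⊗ₜ[A] (1 : B)) * (y ⊗ₜ[A] (1 : B)) := by
      rw [Algebra.TensorProduct.tmul_mul_tmul, one_mul]
    rw [h8, h9, hx, hy]

include hp hchar in
/-- Surjectivity of `A → B = A[t]` if `t ^ p` is in the image of `A`, and `t` is a simple root. -/
theorem surjective_of_adjoin {A : Type*} [CommRing A] [Algebra A B] (P : A[X]) {t : B}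
    (hPt : aeval t P = 0) (hu : IsUnit (aeval t (derivative P))) {a : A} (ha : algebraMap A B a = t ^ p)
    (htop : Algebra.adjoin A {t} = ⊤) : Function.Surjective (algebraMap A B) := by
  have h3 : IsIntegral A t := by
    refine IsIntegral.of_pow hp.pos ?_
    rw [← ha]
    exact isIntegral_algebraMap
  have h4 : Module.Finite A B := by
    have h5 : (Algebra.adjoin A {t}).toSubmodule.FG := h3.fg_adjoin_singleton
    rw [htop] at h5
    exact ⟨h5⟩
  have h5 : Algebra.IsEpi A B := isEpi_of_adjoin hp hchar P hPt hu ha htop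
  exact (Algebra.isEpi_iff_surjective_algebraMap_of_finite (R := A) (A := B)).mp h5

include hp hchar in
/-- Generation of `B` by `p`-th powers. -/
theorem eq_top {A : Type*} [CommRing A] [Algebra A B] (P : A[X]) {t : B}
    (hPt : aeval t P = 0) (hu : IsUnit (aeval t (derivative P)))
    {h h' : B} (hh : h ∈ Algebra.adjoin A {t}) (hhh' : h * h' = 1)
    (htop : Algebra.adjoin A {t, h'} = ⊤)
    (M : AddSubgroup B) (hA : ∀ a, algebraMap A B a ∈ M) (hM : ∀ b, ∀ m ∈ M, b ^ p * m ∈ M) :
    M = ⊤ := by
  classical
  obtain ⟨A', hA'⟩ : ∃ A' : Subalgebra A B, A' = Algebra.adjoin A (Set.range (fun b : B => b ^ p)) :=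
    ⟨_, rfl⟩
  have hpow : ∀ b : B, b ^ p ∈ A' := fun b => by rw [hA']; exact Algebra.subset_adjoin ⟨b, rfl⟩
  -- elements of `A'` are in `M`
  have h1 : ∀ x ∈ A', x ∈ M := by
    intro x hx
    have hx' : x ∈ Submodule.span A (Submonoid.closure (Set.range (fun b : B => b ^ p)) : Set B) := by
      rw [← Algebra.adjoin_eq_span, ← hA']; exact hx
    have h2 : ∀ a : A, a • x ∈ M := by
      refine Submodule.span_induction (p := fun x _ => ∀ a : A, a • x ∈ M) ?_ ?_ ?_ ?_ hx'
      · intro y hy a
        have h3 : ∃ b : B, y = b ^ p := by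
          refine Submonoid.closure_induction (motive := fun y _ => ∃ b : B, y = b ^ p) ?_ ?_ ?_ hy
          · rintro _ ⟨b, rfl⟩; exact ⟨b, rfl⟩
          · exact ⟨1, (one_pow p).symm⟩
          · rintro _ _ _ _ ⟨b, rfl⟩ ⟨c, rfl⟩
            exact ⟨b * c, (mul_pow b c p).symm⟩
        obtain ⟨b, rfl⟩ := h3
        rw [Algebra.smul_def, mul_comm]
        exact hM b _ (hA a)
      · intro a; rw [smul_zero]; exact M.zero_mem
      · intro x y _ _ hx hy a; rw [smul_add]; exact M.add_mem (hx a) (hy a)
      · intro c x _ hx a; rw [smul_smul]; exact hx _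
    have h4 := h2 1
    rwa [one_smul] at h4
  -- `B = A'[t]`
  have h2 : Algebra.adjoin A' {t} = ⊤ := by
    have h3 : (⊤ : Subalgebra A B) ≤ (Algebra.adjoin A' {t}).restrictScalars A := by
      rw [← htop]
      refine Algebra.adjoin_le ?_
      intro x hx
      rcases hx with rfl | hx
      · rw [SetLike.mem_coe, Subalgebra.mem_restrictScalars]
        exact Algebra.subset_adjoin (Set.mem_singleton _)
      · rw [Set.mem_singleton_iff] at hx
        subst hx
        have h4 : x = h ^ (p - 1) * x ^ p := by
          have h5 : h ^ (p - 1) * x ^ p = (h * x) ^ (p - 1) * x := by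
            conv_lhs => rw [← Nat.sub_add_cancel hp.one_lt.le, pow_succ x]
            ring_nf
            rw [Nat.add_sub_cancel_left]
          rw [h5, hhh', one_pow, one_mul]
        rw [SetLike.mem_coe, Subalgebra.mem_restrictScalars, h4]
        refine mul_mem (pow_mem ?_ _) ?_
        · have h5 : Algebra.adjoin A {t} ≤ (Algebra.adjoin A' {t}).restrictScalars A := by
            refine Algebra.adjoin_le (fun y hy => ?_)
            rw [SetLike.mem_coe, Subalgebra.mem_restrictScalars]
            exact Algebra.subset_adjoin hy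
          exact (Subalgebra.mem_restrictScalars A).mp (h5 hh)
        · exact (Algebra.adjoin A' {t}).algebraMap_mem ⟨x ^ p, hpow x⟩
    rw [eq_top_iff]
    intro x _
    exact h3 (Algebra.mem_top (x := x))
  have h6 : Function.Surjective (algebraMap A' B) := by
    refine surjective_of_adjoin hp hchar (P.map (algebraMap A A')) (t := t) ?_ ?_
      (a := ⟨t ^ p, hpow t⟩) rfl h2
    · rw [aeval_map_algebraMap, hPt]
    · rw [derivative_map, aeval_map_algebraMap]
      exact hu
  rw [eq_top_iff]
  intro x _
  obtain ⟨y, rfl⟩ := h6 x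
  exact h1 _ y.2

end

end K722.EtGen
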