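import Groth.Agent.FlatMor.K26.StabDefs
import Groth.Agent.FlatMor.K722.EtGen
import Mathlib.RingTheory.Valuation.ValuationSubring
import Mathlib.RingTheory.Ideal.Quotient.Operations
import Mathlib.FieldTheory.PurelyInseparable.PerfectClosure
import Mathlib.Algebra.Polynomial.Lifts

/-!
`p`-finiteness passes to étale extensions of valuation rings (node ETALE of S14900).
-/

set_option autoImplicit false

universe u

namespace K722.StabEtale

open Polynomial K26.Stab

/-- Decomposition for étale extensions of rings. -/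
theorem exists_dec {A B : Type*} [CommRing A] [CommRing B] [Algebra A B] {p : ℕ} (hp : p.Prime)
    {δ : B} (hδ : δ ∣ (p : B)) (P : A[X]) {t : B} (hPt : aeval t P = 0)
    (hu : IsUnit (aeval t (derivative P))) {h h' : B} (hh : h ∈ Algebra.adjoin A {t})
    (hhh' : h * h' = 1) (htop : Algebra.adjoin A {t, h'} = ⊤)
    {J : Type*} [Fintype J] (θ : J → B)
    (hA : ∀ a : A, ∃ g : J → B, ∃ s : B, algebraMap A B a = ∑ j, θ j * g j ^ p + δ * s) :
    ∀ b : B, ∃ g : J → B, ∃ s : B, b = ∑ j, θ j * g j ^ p + δ * s := by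
  obtain ⟨I, hI⟩ : ∃ I : Ideal B, I = Ideal.span {δ} := ⟨_, rfl⟩
  have hδI : Ideal.Quotient.mk I δ = 0 := by
    rw [Ideal.Quotient.eq_zero_iff_mem, hI]; exact Ideal.mem_span_singleton_self δ
  have hchar : (p : B ⧸ I) = 0 := by
    obtain ⟨c, hc⟩ := hδ
    rw [← map_natCast (Ideal.Quotient.mk I), hc, map_mul, hδI, zero_mul]
  let φ : (J → B ⧸ I) →+ B ⧸ I :=
    { toFun := fun g => ∑ j, Ideal.Quotient.mk I (θ j) * g j ^ p
      map_zero' := by simp [hp.ne_zero]
      map_add' := fun x y => by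
        rw [← Finset.sum_add_distrib]
        refine Finset.sum_congr rfl (fun j _ => ?_)
        rw [Pi.add_apply, EtGen.add_pow' hp hchar, mul_add] }
  have hφ : ∀ g : J → B ⧸ I, φ g = ∑ j, Ideal.Quotient.mk I (θ j) * g j ^ p := fun g => rfl
  have haeval : ∀ (Q : A[X]) (x : B), aeval (Ideal.Quotient.mk I x) Q =
      Ideal.Quotient.mk I (aeval x Q) := fun Q x =>
    aeval_algHom_apply (Ideal.Quotient.mkₐ A I) x Q
  have hadj : ∀ S : Set B, Algebra.adjoin A (Ideal.Quotient.mk I '' S) =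
      (Algebra.adjoin A S).map (Ideal.Quotient.mkₐ A I) := fun S => by
    rw [AlgHom.map_adjoin]; rfl
  have key : φ.range = ⊤ := by
    refine EtGen.eq_top hp hchar P (t := Ideal.Quotient.mk I t) (h := Ideal.Quotient.mk I h)
      (h' := Ideal.Quotient.mk I h') ?_ ?_ ?_ ?_ ?_ _ ?_ ?_
    · rw [haeval, hPt, map_zero]
    · rw [haeval]; exact hu.map _
    · have h1 := hadj {t}
      rw [Set.image_singleton] at h1
      rw [h1]
      exact ⟨h, hh, rfl⟩
    · rw [← map_mul, hhh', map_one]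
    · have h1 := hadj {t, h'}
      rw [Set.image_pair] at h1
      rw [h1, htop, Algebra.map_top, AlgHom.range_eq_top]
      exact Ideal.Quotient.mk_surjective
    · intro a
      obtain ⟨g, s, hgs⟩ := hA a
      refine ⟨fun j => Ideal.Quotient.mk I (g j), ?_⟩
      have h1 : algebraMap A (B ⧸ I) a = Ideal.Quotient.mk I (algebraMap A B a) := rfl
      rw [hφ, h1, hgs, map_add, map_mul, hδI, zero_mul, add_zero, map_sum]
      simp_rw [map_mul, map_pow]
    · rintro b _ ⟨g, rfl⟩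
      refine ⟨fun j => b * g j, ?_⟩
      rw [hφ, hφ, Finset.mul_sum]
      refine Finset.sum_congr rfl (fun j _ => ?_)
      ring
  intro b
  have hb : Ideal.Quotient.mk I b ∈ φ.range := by rw [key]; trivial
  obtain ⟨g, hg⟩ := hb
  choose f hf using fun j => Ideal.Quotient.mk_surjective (I := I) (g j)
  have h1 : b - ∑ j, θ j * f j ^ p ∈ Ideal.span {δ} := by
    rw [← hI, ← Ideal.Quotient.eq_zero_iff_mem, map_sub, ← hg, hφ, map_sum, sub_eq_zero]
    refine Finset.sum_congr rfl (fun j _ => ?_)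
    rw [map_mul, map_pow, hf]
  obtain ⟨s, hs⟩ := Ideal.mem_span_singleton'.mp h1
  exact ⟨f, s, by rw [mul_comm δ, hs]; ring⟩

/-- Independence over the subfield of `p`-th powers passes to separable extensions. -/
theorem indep_field {k K : Type*} [Field k] [Field K] [Algebra k K] [FiniteDimensional k K]
    [Algebra.IsSeparable k K] {p : ℕ} (hp : p.Prime) (hchar : (p : k) = 0) {J : Type*} [Fintype J]
    (θ : J → k) (hθ : ∀ c : J → k, ∑ j, θ j * c j ^ p = 0 → ∀ j, c j = 0)
    (x : J → K) (hx : ∑ j, algebraMap k K (θ j) * x j ^ p = 0) : ∀ j, x j = 0 := by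
  have hcharK : (p : K) = 0 := by
    rw [← map_natCast (algebraMap k K), hchar, map_zero]
  have : CharP k p := (CharP.charP_iff_prime_eq_zero hp).mpr hchar
  have : Fact p.Prime := ⟨hp⟩
  have : ExpChar k p := inferInstance
  let b := Module.finBasis k K
  have hli : LinearIndependent k (fun i => b i ^ p) := by
    have h1 := b.linearIndependent.map_pow_expChar_pow_of_isSeparable p 1
    simpa only [pow_one] using h1
  have h1 : ∀ j, x j ^ p = ∑ i, (b.repr (x j) i) ^ p • (b i ^ p) := by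
    intro j
    conv_lhs => rw [← b.sum_repr (x j), EtGen.sum_pow' hp hcharK]
    refine Finset.sum_congr rfl (fun i _ => ?_)
    rw [smul_pow]
  have h2 : ∑ i, (∑ j, θ j * (b.repr (x j) i) ^ p) • (b i ^ p) = 0 := by
    rw [← hx]
    simp_rw [h1, Finset.mul_sum, Finset.sum_smul]
    rw [Finset.sum_comm]
    refine Finset.sum_congr rfl (fun j _ => Finset.sum_congr rfl (fun i _ => ?_))
    rw [mul_smul, Algebra.smul_def (θ j)]
  have h3 := Fintype.linearIndependent_iff.mp hli _ h2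
  intro j
  have h4 : ∀ i, b.repr (x j) i = 0 := fun i => hθ _ (h3 i) j
  rw [← b.sum_repr (x j)]
  exact Finset.sum_eq_zero (fun i _ => by rw [h4, zero_smul])


/-- Decomposition in the subalgebra `D[t, 1 / h]`. -/
theorem exists_dec_sub {R N : Type*} [CommRing R] [Field N] [Algebra R N] {p : ℕ} (hp : p.Prime)
    (δ : R) (hδ : δ ∣ (p : R)) (D : Subalgebra R N) {J : Type*} [Fintype J] {θ : J → N}
    (hθ : ∀ j, θ j ∈ D)
    (hdec : ∀ b ∈ D, ∃ h : J → N, (∀ j, h j ∈ D) ∧
      ∃ t ∈ D, b = ∑ j, θ j * h j ^ p + algebraMap R N δ * t)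
    {t : N} (P : D[X]) (hPt : aeval t P = 0) {c h h' : N} (hc : c ∈ Algebra.adjoin D {t})
    (hh : h = aeval t (derivative P) * c) (hhh' : h * h' = 1) :
    ∀ b ∈ Algebra.adjoin D {t, h'}, ∃ g : J → N, (∀ j, g j ∈ Algebra.adjoin D {t, h'}) ∧
        ∃ s ∈ Algebra.adjoin D {t, h'}, b = ∑ j, θ j * g j ^ p + algebraMap R N δ * s := by
  obtain ⟨D', hD'⟩ : ∃ D' : Subalgebra D N, D' = Algebra.adjoin D {t, h'} := ⟨_, rfl⟩
  rw [← hD']
  have hDD' : ∀ x ∈ D, x ∈ D' := fun x hx => D'.algebraMap_mem ⟨x, hx⟩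
  have htD' : t ∈ D' := by rw [hD']; exact Algebra.subset_adjoin (Set.mem_insert _ _)
  have hh'D' : h' ∈ D' := by
    rw [hD']; exact Algebra.subset_adjoin (Set.mem_insert_of_mem _ (Set.mem_singleton _))
  have htle : ∀ x ∈ Algebra.adjoin D {t}, x ∈ D' := by
    intro x hx
    exact (Algebra.adjoin_le (S := D') (by simpa using htD')) hx
  have hcD' : c ∈ D' := htle c hc
  have hPD' : aeval t (derivative P) ∈ D' := htle _ (aeval_mem_adjoin_singleton _ _)
  have hhD' : h ∈ D' := by rw [hh]; exact D'.mul_mem hPD' hcD'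
  have hcoe : ∀ Q : D[X], ((aeval (⟨t, htD'⟩ : D') Q : D') : N) = aeval t Q := fun Q =>
    (aeval_algHom_apply D'.val (⟨t, htD'⟩ : D') Q).symm
  have key := exists_dec (A := D) (B := D') hp (δ := algebraMap R D' δ) ?_ P (t := ⟨t, htD'⟩) ?_ ?_
    (h := ⟨h, hhD'⟩) (h' := ⟨h', hh'D'⟩) ?_ ?_ ?_ (fun j => ⟨θ j, hDD' _ (hθ j)⟩) ?_
  · intro b hb
    obtain ⟨g, s, hgs⟩ := key ⟨b, hb⟩
    refine ⟨fun j => g j, fun j => (g j).2, s, s.2, ?_⟩
    have h1 := congrArg D'.val hgs
    rw [map_add, map_sum, map_mul] at h1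
    simp_rw [map_mul, map_pow] at h1
    exact h1
  · obtain ⟨r, hr⟩ := hδ
    exact ⟨algebraMap R D' r, by rw [← map_mul, ← hr, map_natCast]⟩
  · exact Subtype.ext (by rw [hcoe, hPt]; rfl)
  · refine IsUnit.of_mul_eq_one (⟨c, hcD'⟩ * ⟨h', hh'D'⟩) ?_
    apply Subtype.ext
    change ((aeval (⟨t, htD'⟩ : D') (derivative P) : D') : N) * (c * h') = 1
    rw [hcoe, ← mul_assoc, ← hh, hhh']
  · rw [Algebra.adjoin_singleton_eq_range_aeval] at hc ⊢
    obtain ⟨Q, hQ⟩ := hc
    refine ⟨derivative P * Q, ?_⟩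
    apply Subtype.ext
    change ((aeval (⟨t, htD'⟩ : D') (derivative P * Q) : D') : N) = h
    rw [hcoe, map_mul, hh, ← hQ]
    rfl
  · exact Subtype.ext hhh'
  · have h1 : ({⟨t, htD'⟩, ⟨h', hh'D'⟩} : Set D') = ((↑) : D' → N) ⁻¹' {t, h'} := by
      ext x
      simp only [Set.mem_insert_iff, Set.mem_singleton_iff, Set.mem_preimage, Subtype.ext_iff]
    rw [h1]
    subst hD'
    exact Algebra.adjoin_adjoin_coe_preimage
  · intro a
    obtain ⟨g, hg, s, hs, hgs⟩ := hdec a a.2
    refine ⟨fun j => ⟨g j, hDD' _ (hg j)⟩, ⟨s, hDD' _ hs⟩, ?_⟩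
    have hinj : Function.Injective D'.val := Subtype.val_injective
    apply hinj
    rw [map_add, map_sum, map_mul]
    simp_rw [map_mul, map_pow]
    exact hgs

section res

variable {N : Type*} [Field N] {Γ₀ : Type*} [LinearOrderedCommGroupWithZero Γ₀] (v : Valuation N Γ₀)

theorem residue_eq_zero_iff (x : v.valuationSubring) :
    IsLocalRing.residue v.valuationSubring x = 0 ↔ v (x : N) < 1 := by
  rw [IsLocalRing.residue_eq_zero_iff, Valuation.mem_maximalIdeal_iff]

/-- The residue field of `F` as a subfield of the residue field of `N`. -/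
def resSub (F : Subfield N) : Subfield (IsLocalRing.ResidueField v.valuationSubring) where
  carrier := {x | ∃ e : v.valuationSubring, (e : N) ∈ F ∧ IsLocalRing.residue _ e = x}
  mul_mem' := by
    rintro _ _ ⟨e, he, rfl⟩ ⟨f, hf, rfl⟩
    exact ⟨e * f, F.mul_mem he hf, map_mul _ _ _⟩
  one_mem' := ⟨1, F.one_mem, map_one _⟩
  add_mem' := by
    rintro _ _ ⟨e, he, rfl⟩ ⟨f, hf, rfl⟩
    exact ⟨e + f, F.add_mem he hf, map_add _ _ _⟩
  zero_mem' := ⟨0, F.zero_mem, map_zero _⟩
  neg_mem' := by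
    rintro _ ⟨e, he, rfl⟩
    exact ⟨-e, F.neg_mem he, map_neg _ _⟩
  inv_mem' := by
    rintro _ ⟨e, he, rfl⟩
    by_cases h : v (e : N) < 1
    · rw [(residue_eq_zero_iff v e).mpr h, inv_zero]
      exact ⟨0, F.zero_mem, map_zero _⟩
    · have h1 : v (e : N) = 1 := le_antisymm e.2 (not_lt.mp h)
      have h2 : v ((e : N)⁻¹) = 1 := by rw [map_inv₀, h1, inv_one]
      refine ⟨⟨(e : N)⁻¹, h2.le⟩, F.inv_mem he, ?_⟩
      refine eq_inv_of_mul_eq_one_left ?_
      rw [← map_mul]
      have h3 : (⟨(e : N)⁻¹, h2.le⟩ : v.valuationSubring) * e = 1 := by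
        apply Subtype.ext
        change (e : N)⁻¹ * e = 1
        refine inv_mul_cancel₀ ?_
        intro h4
        rw [h4, map_zero] at h1
        exact zero_ne_one h1
      rw [h3, map_one]

theorem mem_resSub {F : Subfield N} {x : IsLocalRing.ResidueField v.valuationSubring} :
    x ∈ resSub v F ↔ ∃ e : v.valuationSubring, (e : N) ∈ F ∧ IsLocalRing.residue _ e = x := Iff.rfl

/-- The valuation ring of the subfield `F`. -/
def intSub (F : Subfield N) : Subring N := F.toSubring ⊓ v.valuationSubring.toSubring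

theorem mem_intSub {F : Subfield N} {x : N} : x ∈ intSub v F ↔ x ∈ F ∧ v x ≤ 1 := Iff.rfl

/-- The inclusion of the valuation ring of `F` in the one of `N`. -/
def inclO (F : Subfield N) : intSub v F →+* v.valuationSubring :=
  Subring.inclusion inf_le_right

/-- The reduction map on the valuation ring of `F`. -/
noncomputable def redF (F : Subfield N) : intSub v F →+* resSub v F :=
  ((IsLocalRing.residue v.valuationSubring).comp (inclO v F)).codRestrict (resSub v F)
    (fun x => ⟨inclO v F x, x.2.1, rfl⟩)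

theorem redF_apply (F : Subfield N) (x : intSub v F) :
    ((redF v F x : resSub v F) : IsLocalRing.ResidueField v.valuationSubring) =
      IsLocalRing.residue v.valuationSubring (inclO v F x) := rfl

theorem aeval_redF (F : Subfield N) (Q : (intSub v F)[X]) (y : v.valuationSubring) :
    aeval (IsLocalRing.residue v.valuationSubring y) (Q.map (redF v F)) =
      IsLocalRing.residue v.valuationSubring (eval₂ (inclO v F) y Q) := by
  rw [aeval_def, eval₂_map, hom_eval₂]
  rfl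

theorem coe_eval₂ (F : Subfield N) (Q : (intSub v F)[X]) (y : v.valuationSubring) :
    ((eval₂ (inclO v F) y Q : v.valuationSubring) : N) =
      eval₂ (intSub v F).subtype (y : N) Q := by
  exact hom_eval₂ Q (inclO v F) (v.valuationSubring.subtype) y

variable {v} in
theorem exists_lift {E : Type*} [Field E] [Algebra E N] (Q : E[X])
    (hQ : ∀ i, v (algebraMap E N (Q.coeff i)) ≤ 1) :
    ∃ Q₁ : (intSub v (algebraMap E N).fieldRange)[X],
      Q₁.map (intSub v (algebraMap E N).fieldRange).subtype = Q.map (algebraMap E N) := by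
  refine ⟨(Q.map (algebraMap E N)).toSubring _ ?_, map_toSubring _ _ _⟩
  intro x hx
  rw [Finset.mem_coe, mem_coeffs_iff] at hx
  obtain ⟨i, _, rfl⟩ := hx
  rw [coeff_map]
  exact ⟨⟨Q.coeff i, rfl⟩, hQ i⟩

variable {v} in
/-- Independence passes to étale extensions. -/
theorem indep_of_etale {p : ℕ} (hp : p.Prime) (hvp : v (p : N) < 1)
    {E : Type*} [Field E] [Algebra E N] {F' : Subfield N}
    {t : N} (hvt : v t ≤ 1) (P : E[X]) (hvP : ∀ i, v (algebraMap E N (P.coeff i)) ≤ 1)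
    (hPt : aeval t P = 0) (hPt' : v (aeval t (derivative P)) = 1)
    (hgen : ∀ x ∈ F', v x ≤ 1 →
          ∃ A B : E[X], (∀ i, v (algebraMap E N (A.coeff i)) ≤ 1) ∧
            (∀ i, v (algebraMap E N (B.coeff i)) ≤ 1) ∧ v (aeval t B) = 1 ∧
            x * aeval t B = aeval t A)
    {J : Type*} [Fintype J] {θ : J → N} (hθ : ∀ j, θ j ∈ (algebraMap E N).fieldRange)
    (hθ1 : ∀ j, v (θ j) ≤ 1)
    (hind : ∀ h : J → N, (∀ j, h j ∈ (algebraMap E N).fieldRange) → (∀ j, v (h j) ≤ 1) →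
      v (∑ j, θ j * h j ^ p) < 1 → ∀ j, v (h j) < 1)
    (h : J → N) (hh : ∀ j, h j ∈ F') (hh1 : ∀ j, v (h j) ≤ 1) (hsum : v (∑ j, θ j * h j ^ p) < 1) :
    ∀ j, v (h j) < 1 := by
  classical
  obtain ⟨F, hF⟩ : ∃ F : Subfield N, F = (algebraMap E N).fieldRange := ⟨_, rfl⟩
  -- the residue of `t`
  obtain ⟨τ, hτ⟩ : ∃ τ : v.valuationSubring, τ = ⟨t, hvt⟩ := ⟨_, rfl⟩
  have hτt : (τ : N) = t := by rw [hτ]
  have hred : ∀ Q : E[X], (∀ i, v (algebraMap E N (Q.coeff i)) ≤ 1) →
      ∃ Q₁ : (intSub v F)[X], Q₁.map (intSub v F).subtype = Q.map (algebraMap E N) := by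
    intro Q hQ; rw [hF]; exact exists_lift Q hQ
  have hev : ∀ (Q : E[X]) (Q₁ : (intSub v F)[X]),
      Q₁.map (intSub v F).subtype = Q.map (algebraMap E N) →
      ((eval₂ (inclO v F) τ Q₁ : v.valuationSubring) : N) = aeval t Q := by
    intro Q Q₁ hQ
    rw [coe_eval₂, hτt, ← eval_map, hQ, eval_map_algebraMap]
  obtain ⟨P₁, hP₁⟩ := hred P hvP
  set k := resSub v F with hk
  set tb := IsLocalRing.residue v.valuationSubring τ with htb
  have h1 : aeval tb (P₁.map (redF v F)) = 0 := by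
    rw [htb, aeval_redF, residue_eq_zero_iff, hev P P₁ hP₁, hPt, map_zero]
    exact zero_lt_one
  have h2 : aeval tb (derivative (P₁.map (redF v F))) ≠ 0 := by
    rw [derivative_map, htb, aeval_redF, Ne, residue_eq_zero_iff, hev (derivative P) (derivative P₁) ?_,
      hPt']
    · exact lt_irrefl _
    · rw [← derivative_map, hP₁, derivative_map]
  have h3 : P₁.map (redF v F) ≠ 0 := by
    intro h0; rw [h0, derivative_zero, map_zero] at h2; exact h2 rfl
  have h4 : IsIntegral k tb := by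
    rw [← isAlgebraic_iff_isIntegral]
    exact ⟨_, h3, h1⟩
  have h5 : IsSeparable k tb := by
    change (minpoly k tb).Separable
    rw [separable_iff_derivative_ne_zero (minpoly.irreducible h4)]
    intro h0
    obtain ⟨c, hc⟩ := minpoly.dvd k tb h1
    apply h2
    rw [hc, derivative_mul, h0, zero_mul, zero_add, map_mul, minpoly.aeval, zero_mul]
  have h6 : FiniteDimensional k (IntermediateField.adjoin k {tb}) :=
    IntermediateField.adjoin.finiteDimensional h4
  have h7 : Algebra.IsSeparable k (IntermediateField.adjoin k {tb}) :=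
    (IntermediateField.isSeparable_adjoin_simple_iff_isSeparable k _).mpr h5
  have h8 : (p : k) = 0 := by
    apply Subtype.ext
    have h9 : (p : IsLocalRing.ResidueField v.valuationSubring) = 0 := by
      rw [← map_natCast (IsLocalRing.residue v.valuationSubring), residue_eq_zero_iff]
      exact hvp
    change ((p : k) : IsLocalRing.ResidueField v.valuationSubring) = 0
    rw [← h9]
    exact map_natCast k.subtype p
  -- polynomials in `t` have residues in `k(tb)`
  have h9 : ∀ Q : E[X], ∀ hQ : (∀ i, v (algebraMap E N (Q.coeff i)) ≤ 1), ∀ y : v.valuationSubring,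
      (y : N) = aeval t Q →
      IsLocalRing.residue v.valuationSubring y ∈ IntermediateField.adjoin k {tb} := by
    intro Q hQ y hy
    obtain ⟨Q₁, hQ₁⟩ := hred Q hQ
    have h10 : y = eval₂ (inclO v F) τ Q₁ := Subtype.ext (by rw [hy, hev Q Q₁ hQ₁])
    rw [h10, ← aeval_redF]
    exact IntermediateField.algebra_adjoin_le_adjoin _ _ (aeval_mem_adjoin_singleton _ _)
  have h10 : ∀ j, IsLocalRing.residue v.valuationSubring ⟨h j, hh1 j⟩ ∈
      IntermediateField.adjoin k {tb} := by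
    intro j
    obtain ⟨A, B, hA, hB, hB1, hAB⟩ := hgen (h j) (hh j) (hh1 j)
    have hBle : v (aeval t B) ≤ 1 := hB1.le
    have hAle : v (aeval t A) ≤ 1 := by
      rw [← hAB, map_mul, hB1, mul_one]; exact hh1 j
    have e1 := h9 B hB ⟨_, hBle⟩ rfl
    have e2 := h9 A hA ⟨_, hAle⟩ rfl
    have e3 : IsLocalRing.residue v.valuationSubring ⟨h j, hh1 j⟩ *
        IsLocalRing.residue v.valuationSubring ⟨aeval t B, hBle⟩ =
        IsLocalRing.residue v.valuationSubring ⟨aeval t A, hAle⟩ := by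
      rw [← map_mul]
      exact congrArg _ (Subtype.ext hAB)
    have e4 : IsLocalRing.residue v.valuationSubring ⟨aeval t B, hBle⟩ ≠ 0 := by
      rw [Ne, residue_eq_zero_iff]
      exact fun h0 => (h0.trans_eq hB1.symm).false
    rw [eq_div_of_mul_eq e4 e3]
    exact div_mem e2 e1
  have hsumO : ∀ (x : J → v.valuationSubring),
      ((∑ j, (⟨θ j, hθ1 j⟩ : v.valuationSubring) * x j ^ p : v.valuationSubring) : N) =
        ∑ j, θ j * (x j : N) ^ p := by
    intro x
    have h12 := map_sum v.valuationSubring.subtype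
      (fun j => (⟨θ j, hθ1 j⟩ : v.valuationSubring) * x j ^ p) Finset.univ
    exact h12
  obtain ⟨θb, hθb⟩ : ∃ θb : J → k, ∀ j, (θb j : IsLocalRing.ResidueField v.valuationSubring) =
      IsLocalRing.residue v.valuationSubring ⟨θ j, hθ1 j⟩ :=
    ⟨fun j => ⟨_, ⟨⟨θ j, hθ1 j⟩, by rw [hF]; exact hθ j, rfl⟩⟩, fun j => rfl⟩
  obtain ⟨x, hx⟩ : ∃ x : J → IntermediateField.adjoin k {tb}, ∀ j,
      (x j : IsLocalRing.ResidueField v.valuationSubring) =
      IsLocalRing.residue v.valuationSubring ⟨h j, hh1 j⟩ := ⟨fun j => ⟨_, h10 j⟩, fun j => rfl⟩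
  have h11 : ∀ j, x j = 0 := by
    refine indep_field hp h8 θb ?_ x ?_
    · intro c hc j
      choose e he1 he2 using fun j => (c j).2
      have h12 : v (∑ j, θ j * (e j : N) ^ p) < 1 := by
        rw [← hsumO, ← residue_eq_zero_iff, map_sum]
        have h13 := congrArg (algebraMap k (IsLocalRing.ResidueField v.valuationSubring)) hc
        rw [map_sum, map_zero] at h13
        rw [← h13]
        refine Finset.sum_congr rfl (fun j _ => ?_)
        rw [map_mul, map_pow, he2, map_mul, map_pow, ← hθb]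
        rfl
      have h14 := hind (fun j => (e j : N)) (fun j => by rw [← hF]; exact he1 j)
        (fun j => (e j).2) h12 j
      apply Subtype.ext
      rw [← he2]
      exact (residue_eq_zero_iff v _).mpr h14
    · apply Subtype.ext
      have h13 := (residue_eq_zero_iff v
        (∑ j, (⟨θ j, hθ1 j⟩ : v.valuationSubring) * (⟨h j, hh1 j⟩ : v.valuationSubring) ^ p)).mpr (by
          rw [hsumO]; exact hsum)
      rw [map_sum] at h13
      change (IntermediateField.adjoin k {tb}).val (∑ j, _) = 0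
      rw [map_sum, ← h13]
      refine Finset.sum_congr rfl (fun j _ => ?_)
      rw [map_mul, map_pow, map_mul, map_pow, ← hθb, ← hx]
      rfl
  intro j
  rw [← residue_eq_zero_iff v ⟨h j, hh1 j⟩, ← hx, h11 j]
  rfl

end res

section main

variable {R : Type*} [CommRing R] {N : Type*} [Field N] [Algebra R N] {Γ₀ : Type*}
  [LinearOrderedCommGroupWithZero Γ₀] {v : Valuation N Γ₀}

/-- The valuation ring of `F'` as an algebra over a subring `D`. -/
def valAlg (v : Valuation N Γ₀) (D : Subalgebra R N) (F' : Subfield N)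
    (hD : ∀ x ∈ D, x ∈ F' ∧ v x ≤ 1) : Subalgebra D N where
  carrier := {x | x ∈ F' ∧ v x ≤ 1}
  mul_mem' := fun {x y} hx hy => ⟨F'.mul_mem hx.1 hy.1, by
    rw [map_mul]; exact mul_le_one' hx.2 hy.2⟩
  one_mem' := ⟨F'.one_mem, by rw [map_one]⟩
  add_mem' := fun {x y} hx hy => ⟨F'.add_mem hx.1 hy.1,
    (v.map_add x y).trans (max_le hx.2 hy.2)⟩
  zero_mem' := ⟨F'.zero_mem, by rw [map_zero]; exact zero_le_one⟩
  algebraMap_mem' := fun r => hD r r.2

theorem exists_polyD {E : Type*} [Field E] [Algebra E N] (D : Subalgebra R N) (Q : E[X])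
    (hQ : ∀ i, algebraMap E N (Q.coeff i) ∈ D) :
    ∃ Q₁ : D[X], ∀ x : N, aeval x Q₁ = aeval x Q ∧ aeval x (derivative Q₁) = aeval x (derivative Q) := by
  obtain ⟨Q₁, hQ₁⟩ : ∃ Q₁ : D[X], Q₁.map (algebraMap D N) = Q.map (algebraMap E N) := by
    rw [← mem_lifts, lifts_iff_coeff_lifts]
    intro i
    rw [coeff_map]
    exact ⟨⟨_, hQ i⟩, rfl⟩
  refine ⟨Q₁, fun x => ⟨?_, ?_⟩⟩
  · rw [← eval_map_algebraMap, hQ₁, eval_map_algebraMap]
  · rw [← eval_map_algebraMap, ← derivative_map, hQ₁, derivative_map, eval_map_algebraMap]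

/-- Decomposition passes to étale extensions. -/
theorem dec_of_etale {p : ℕ} (hp : p.Prime)
    {E : Type*} [Field E] [Algebra E N] {F' : Subfield N}
    (hFF' : (algebraMap E N).fieldRange ≤ F') {t : N} (ht : t ∈ F') (hvt : v t ≤ 1)
    (P : E[X]) (hvP : ∀ i, v (algebraMap E N (P.coeff i)) ≤ 1)
    (hPt : aeval t P = 0) (hPt' : v (aeval t (derivative P)) = 1)
    (hgen : ∀ x ∈ F', v x ≤ 1 →
          ∃ A B : E[X], (∀ i, v (algebraMap E N (A.coeff i)) ≤ 1) ∧
            (∀ i, v (algebraMap E N (B.coeff i)) ≤ 1) ∧ v (aeval t B) = 1 ∧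
            x * aeval t B = aeval t A)
    {J : Type*} [Fintype J] {θ : J → N} (δ : R) (hδ : δ ∣ (p : R))
    (hdec : ∀ S : Finset N, (∀ s ∈ S, s ∈ (algebraMap E N).fieldRange ∧ v s ≤ 1) →
      ∃ D : Subalgebra R N, D.FG ∧ (∀ s ∈ S, s ∈ D) ∧ (∀ j, θ j ∈ D) ∧
        (∀ x ∈ D, x ∈ (algebraMap E N).fieldRange ∧ v x ≤ 1) ∧
        ∀ b ∈ D, ∃ h : J → N, (∀ j, h j ∈ D) ∧
          ∃ t ∈ D, b = ∑ j, θ j * h j ^ p + algebraMap R N δ * t)
    (S : Finset N) (hS : ∀ s ∈ S, s ∈ F' ∧ v s ≤ 1) :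
    ∃ D : Subalgebra R N, D.FG ∧ (∀ s ∈ S, s ∈ D) ∧ (∀ j, θ j ∈ D) ∧ (∀ x ∈ D, x ∈ F' ∧ v x ≤ 1) ∧
      ∀ b ∈ D, ∃ h : J → N, (∀ j, h j ∈ D) ∧
        ∃ t ∈ D, b = ∑ j, θ j * h j ^ p + algebraMap R N δ * t := by
  classical
  choose! A B hA hB hB1 hAB using fun s (hs : s ∈ S) => hgen s (hS s hs).1 (hS s hs).2
  let cf : E[X] → Finset N := fun Q => Q.coeffs.image (algebraMap E N)
  have hcf : ∀ (Q : E[X]) (D : Subalgebra R N), (∀ x ∈ cf Q, x ∈ D) →
      ∀ i, algebraMap E N (Q.coeff i) ∈ D := by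
    intro Q D h i
    by_cases h0 : Q.coeff i = 0
    · rw [h0, map_zero]; exact D.zero_mem
    · exact h _ (Finset.mem_image_of_mem _ (coeff_mem_coeffs h0))
  have hcf' : ∀ (Q : E[X]), (∀ i, v (algebraMap E N (Q.coeff i)) ≤ 1) → ∀ x ∈ cf Q,
      x ∈ (algebraMap E N).fieldRange ∧ v x ≤ 1 := by
    intro Q hQ x hx
    rw [Finset.mem_image] at hx
    obtain ⟨y, hy, rfl⟩ := hx
    rw [mem_coeffs_iff] at hy
    obtain ⟨i, _, rfl⟩ := hy
    exact ⟨⟨_, rfl⟩, hQ i⟩
  obtain ⟨D, hDfg, hSD, hθD, hDF, hDdec⟩ := hdec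
    (cf P ∪ S.biUnion (fun s => cf (A s) ∪ cf (B s))) (by
      intro x hx
      rw [Finset.mem_union, Finset.mem_biUnion] at hx
      rcases hx with hx | ⟨s, hs, hx⟩
      · exact hcf' P hvP x hx
      · rw [Finset.mem_union] at hx
        rcases hx with hx | hx
        · exact hcf' _ (hA s hs) x hx
        · exact hcf' _ (hB s hs) x hx)
  have hDF' : ∀ x ∈ D, x ∈ F' ∧ v x ≤ 1 := fun x hx => ⟨hFF' (hDF x hx).1, (hDF x hx).2⟩
  -- polynomials with coefficients in `D`
  obtain ⟨P₁, hP₁⟩ := exists_polyD D P (hcf P D (fun x hx => hSD x (Finset.mem_union_left _ hx)))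
  have hAt : ∀ s ∈ S, aeval t (A s) ∈ Algebra.adjoin D {t} := by
    intro s hs
    obtain ⟨Q₁, hQ₁⟩ := exists_polyD D (A s) (hcf (A s) D (fun x hx => hSD x
      (Finset.mem_union_right _ (Finset.mem_biUnion.mpr ⟨s, hs, Finset.mem_union_left _ hx⟩))))
    rw [← (hQ₁ t).1]
    exact aeval_mem_adjoin_singleton _ _
  have hBt : ∀ s ∈ S, aeval t (B s) ∈ Algebra.adjoin D {t} := by
    intro s hs
    obtain ⟨Q₁, hQ₁⟩ := exists_polyD D (B s) (hcf (B s) D (fun x hx => hSD x
      (Finset.mem_union_right _ (Finset.mem_biUnion.mpr ⟨s, hs, Finset.mem_union_right _ hx⟩))))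
    rw [← (hQ₁ t).1]
    exact aeval_mem_adjoin_singleton _ _
  have hPt1 : aeval t (derivative P₁) = aeval t (derivative P) := (hP₁ t).2
  obtain ⟨c, hc⟩ : ∃ c : N, c = ∏ s ∈ S, aeval t (B s) := ⟨_, rfl⟩
  have hcmem : c ∈ Algebra.adjoin D {t} := by rw [hc]; exact prod_mem hBt
  have hvc : v c = 1 := by
    rw [hc, map_prod]
    exact Finset.prod_eq_one hB1
  obtain ⟨h, hh⟩ : ∃ h : N, h = aeval t (derivative P₁) * c := ⟨_, rfl⟩
  have hvh : v h = 1 := by rw [hh, map_mul, hPt1, hPt', hvc, one_mul]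
  have hh0 : h ≠ 0 := by
    intro h0; rw [h0, map_zero] at hvh; exact zero_ne_one hvh
  have hhh' : h * h⁻¹ = 1 := mul_inv_cancel₀ hh0
  obtain ⟨D', hD'⟩ : ∃ D' : Subalgebra D N, D' = Algebra.adjoin D {t, h⁻¹} := ⟨_, rfl⟩
  have hfin : Algebra.FiniteType R D := (Subalgebra.fg_iff_finiteType D).mp hDfg
  have hfin' : Algebra.FiniteType D D' := by
    refine (Subalgebra.fg_iff_finiteType D').mp ?_
    rw [hD', Subalgebra.fg_def]
    exact ⟨{t, h⁻¹}, Set.toFinite _, rfl⟩
  have hDD' : ∀ x ∈ D, x ∈ D' := fun x hx => D'.algebraMap_mem ⟨x, hx⟩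
  have htD' : t ∈ D' := by rw [hD']; exact Algebra.subset_adjoin (Set.mem_insert _ _)
  have hh'D' : h⁻¹ ∈ D' := by
    rw [hD']; exact Algebra.subset_adjoin (Set.mem_insert_of_mem _ (Set.mem_singleton _))
  have htle : ∀ x ∈ Algebra.adjoin D {t}, x ∈ D' := by
    intro x hx
    exact (Algebra.adjoin_le (S := D') (by simpa using htD')) hx
  have hF'mem : ∀ x ∈ D', x ∈ F' ∧ v x ≤ 1 := by
    have h1 : D' ≤ valAlg v D F' hDF' := by
      rw [hD']
      refine Algebra.adjoin_le ?_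
      have htF : t ∈ valAlg v D F' hDF' := ⟨ht, hvt⟩
      rintro x (rfl | hx)
      · exact htF
      · rw [Set.mem_singleton_iff] at hx
        rw [hx]
        have h2 : h ∈ valAlg v D F' hDF' := by
          have h3 : Algebra.adjoin D {t} ≤ valAlg v D F' hDF' :=
            Algebra.adjoin_le (by simpa using htF)
          rw [hh]
          exact mul_mem (h3 (aeval_mem_adjoin_singleton _ _)) (h3 hcmem)
        refine ⟨F'.inv_mem h2.1, ?_⟩
        rw [map_inv₀, hvh, inv_one]
    exact fun x hx => h1 hx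
  refine ⟨D'.restrictScalars R, ?_, ?_, ?_, hF'mem, ?_⟩
  · refine (Subalgebra.fg_iff_finiteType _).mpr ?_
    exact Algebra.FiniteType.trans (R := R) (S := D) (A := D') hfin hfin'
  · intro s hs
    change s ∈ D'
    have h1 : s = aeval t (A s) * (aeval t (derivative P₁) * ∏ s' ∈ S.erase s, aeval t (B s')) * h⁻¹ := by
      rw [eq_mul_inv_iff_mul_eq₀ hh0, hh, hc, ← Finset.mul_prod_erase S _ hs, ← hAB s hs]
      ring
    rw [h1]
    refine mul_mem (mul_mem (htle _ (hAt s hs)) (mul_mem (htle _ (aeval_mem_adjoin_singleton _ _)) ?_))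
      hh'D'
    exact prod_mem (fun s' hs' => htle _ (hBt s' (Finset.mem_of_mem_erase hs')))
  · exact fun j => hDD' _ (hθD j)
  · intro b hb
    have h1 := exists_dec_sub hp δ hδ D hθD hDdec P₁ (by rw [(hP₁ t).1, hPt]) hcmem hh hhh' b
      (by rw [← hD']; exact hb)
    rw [← hD'] at h1
    exact h1

end main

section final

variable {R : Type u} [CommRing R] [IsDomain R] [ValuationRing R] [IsSepClosed (FractionRing R)]
  {N : Type u} [Field N] [Algebra R N] {Γ₀ : Type u} [LinearOrderedCommGroupWithZero Γ₀]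
  {v : Valuation N Γ₀}

omit [IsDomain R] [ValuationRing R] [IsSepClosed (FractionRing R)] in
/-- `p`-finiteness passes to étale extensions (node ETALE). -/
theorem good_of_etale (hB : Base R v) (_hRf : ¬ IsField R) {p : ℕ} (hp : p.Prime)
    (hpm : ¬ IsUnit (p : R)) {E : Type u} [Field E] [Algebra E N]
    (hF : Good R v p (algebraMap E N).fieldRange) {F' : Subfield N}
    (hFF' : (algebraMap E N).fieldRange ≤ F') {t : N} (ht : t ∈ F') (hvt : v t ≤ 1)
    (P : Polynomial E) (_hP : P.Monic) (hvP : ∀ i, v (algebraMap E N (P.coeff i)) ≤ 1)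
    (hPt : Polynomial.aeval t P = 0) (hPt' : v (Polynomial.aeval t (Polynomial.derivative P)) = 1)
    (hgen : ∀ x ∈ F', v x ≤ 1 →
          ∃ A B : Polynomial E, (∀ i, v (algebraMap E N (A.coeff i)) ≤ 1) ∧
            (∀ i, v (algebraMap E N (B.coeff i)) ≤ 1) ∧ v (Polynomial.aeval t B) = 1 ∧
            x * Polynomial.aeval t B = Polynomial.aeval t A) :
    Good R v p F' := by
  obtain ⟨J, _, θ, j₀, hfam⟩ := hF
  have hvp : v (p : N) < 1 := by
    have h1 := hB.lt _ hpm
    rwa [map_natCast] at h1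
  refine ⟨J, _, θ, j₀, ⟨fun j => hFF' (hfam.mem j), hfam.le, hfam.one, ?_, ?_⟩⟩
  · intro h hh hh1 hsum
    exact indep_of_etale hp hvp hvt P hvP hPt hPt' hgen hfam.mem hfam.le hfam.indep h hh hh1 hsum
  · intro δ hδ0 hδ S hS
    exact dec_of_etale hp hFF' ht hvt P hvP hPt hPt' hgen δ hδ (hfam.dec δ hδ0 hδ) S hS

end final

end K722.StabEtale
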